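import Cfsg.Agent.Lib.RigidGraph.Ru.Out.Defs
import Cfsg.Agent.Lib.RigidGraph.Ru.Out.Data
/-! The words that tell the candidates apart. -/

set_option autoImplicit false
set_option maxRecDepth 100000
set_option Elab.async false

namespace Cfsg.Agent.RigidGraph.Ru

/-- The relations used. -/
def autRels : List (List ℕ × ℕ) := [([0], 2), ([1], 15), ([5, 1], 7)]

/-- Equality of lists of numbers. -/
def eqL : List ℕ → List ℕ → Bool
  | [], [] => true
  | a :: l, b :: m => Nat.beq a b && eqL l m
  | _, _ => false

theorem eqL_eq : ∀ {l m : List ℕ}, eqL l m = true → l = m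
  | [], [], _ => rfl
  | a :: l, b :: m, h => by
    rw [eqL, Bool.and_eq_true, Nat.beq_eq] at h
    rw [h.1, eqL_eq h.2]

theorem autTests_ok : (Nat.beq autTests.length 56 && allB (fun i =>
    let t := autTests.getD i ([], 0, 0)
    bif Nat.beq i 7 then true
    else Nat.blt t.2.2 4060 && !Nat.beq (powAt (i / 28 + 1) (i % 28) t.1 t.2.1 t.2.2) t.2.2 &&
      autRels.any (fun r => eqL r.1 t.1 && Nat.beq r.2 t.2.1)) 56) = true := by decide +kernel

theorem autRels_ok : autRels.all (fun r => allB (fun z => Nat.beq (powAt 1 7 r.1 r.2 z) z) 4060) = true := by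
  decide +kernel

theorem genWord_ok : allB (fun z => Nat.beq (wordAt 1 7 genWord z) (slot (outE 1) z)) 4060 = true := by decide +kernel

end Cfsg.Agent.RigidGraph.Ru
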