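import Cfsg.Agent.Lib.RigidGraph.Ru.Out.Centralisers
import Cfsg.Agent.Lib.RigidGraph.Ru.Out.TestChecks
import Cfsg.Prelude.Def_KGroupFacts
import Mathlib.GroupTheory.Sylow

/-! Every automorphism of the group on 4060 points is inner. -/

set_option autoImplicit false
set_option maxRecDepth 100000

namespace Cfsg.Agent.RigidGraph.Ru

open Cfsg

attribute [local irreducible] nodesG outNodes0 outNodes1 outNodes2 outProg rowsB graph outE autTests genWord

/-- The involution of the candidates. -/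
noncomputable def cG : ↥ruGroup := candG 7

attribute [local irreducible] xG hG yG outG candG permOf

theorem ord_dvd {a b : ℕ} (h : xG ^ a = xG ^ b) : a % 29 = b % 29 := by
  have := (pow_eq_pow_iff_modEq).1 h
  rw [orderOf_xG] at this
  exact this

theorem xG_conj (i : ℕ) : hG ^ i * xG * (hG ^ i)⁻¹ = xG ^ 4 ^ i := by
  induction i with
  | zero => simp
  | succ i ih =>
    rw [pow_succ', mul_inv_rev, show hG * hG ^ i * xG * ((hG ^ i)⁻¹ * hG⁻¹) = hG * (hG ^ i * xG * (hG ^ i)⁻¹) * hG⁻¹ by group,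
      ih, ← conj_pow, show hG * xG * hG⁻¹ = xG ^ 4 from mul_inv_eq_iff_eq_mul.2 xG_facts.1, ← pow_mul, ← pow_succ']

theorem coset_reps : ∀ j < 29, j ≠ 0 → ∃ i < 14, ∃ e ∈ [1, 2], 4 ^ i * e % 29 = j := by decide +kernel

theorem sylow_conj (φ : MulAut ↥ruGroup) : ∃ g : ↥ruGroup, ∃ j : ℕ, j % 29 ≠ 0 ∧ φ xG = g * xG ^ j * g⁻¹ := by
  haveI : Fact (Nat.Prime 29) := ⟨by norm_num⟩
  have hf : (Nat.card ↥ruGroup).factorization 29 = 1 := by
    rw [card_ruGroup]
    refine le_antisymm ?_ ((Nat.Prime.dvd_iff_one_le_factorization (by norm_num) (by norm_num)).1 (by norm_num))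
    by_contra hlt
    have : 29 ^ 2 ∣ (145926144000 : ℕ) :=
      (Nat.Prime.pow_dvd_iff_le_factorization (by norm_num) (by norm_num)).2 (by omega)
    norm_num at this
  have hP : ∀ z : ↥ruGroup, orderOf z = 29 →
      Nat.card (Subgroup.zpowers z) = 29 ^ (Nat.card ↥ruGroup).factorization 29 :=
    fun z hz => by rw [Nat.card_zpowers, hz, hf, pow_one]
  have hz : orderOf (φ xG) = 29 := by rw [← orderOf_xG]; exact MulEquiv.orderOf_eq φ xG
  obtain ⟨g, hg⟩ := MulAction.exists_smul_eq ↥ruGroup (Sylow.ofCard _ (hP _ orderOf_xG)) (Sylow.ofCard _ (hP _ hz))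
  have hmem : φ xG ∈ (Subgroup.zpowers xG).map (MulAut.conj g).toMonoidHom := by
    have h2 : (((g • Sylow.ofCard _ (hP _ orderOf_xG) : Sylow 29 ↥ruGroup)) : Subgroup ↥ruGroup) =
        Subgroup.zpowers (φ xG) := by rw [hg]; rfl
    have h3 : (((g • Sylow.ofCard _ (hP _ orderOf_xG) : Sylow 29 ↥ruGroup)) : Subgroup ↥ruGroup) =
        (Subgroup.zpowers xG).map (MulAut.conj g).toMonoidHom := rfl
    rw [← h3, h2]
    exact Subgroup.mem_zpowers _
  obtain ⟨y, hy, e⟩ := Subgroup.mem_map.1 hmem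
  obtain ⟨j, rfl⟩ := (Submonoid.mem_powers_iff _ _).1 ((mem_powers_iff_mem_zpowers).2 hy)
  refine ⟨g, j, fun h0 => ?_, e.symm.trans (MulAut.conj_apply g _)⟩
  have h1 : φ xG = 1 := by
    rw [← e, ← pow_mod_orderOf, orderOf_xG, h0, pow_zero, map_one]
  rw [h1, orderOf_one] at hz
  norm_num at hz

theorem normalise (φ : MulAut ↥ruGroup) : ∃ ψ : MulAut ↥ruGroup, ∃ e ∈ [1, 2],
    φ⁻¹ * ψ ∈ Inn ↥ruGroup ∧ ψ xG = xG ^ e ∧ ψ hG = hG := by
  obtain ⟨g, j, hj, hg⟩ := sylow_conj φ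
  obtain ⟨i, -, e, he, hie⟩ := coset_reps (j % 29) (Nat.mod_lt _ (by norm_num)) hj
  set c : ↥ruGroup := g * hG ^ i with hc
  set φ1 : MulAut ↥ruGroup := MulAut.conj c⁻¹ * φ with hφ1
  have hx1 : φ1 xG = xG ^ e := by
    have e1 : xG ^ j = hG ^ i * xG ^ e * (hG ^ i)⁻¹ := by
      rw [← conj_pow, xG_conj, ← pow_mul, ← pow_mod_orderOf xG j, ← pow_mod_orderOf xG (4 ^ i * e), orderOf_xG, hie]
    rw [hφ1, MulAut.mul_apply, hg, MulAut.conj_apply, e1, hc]
    group
  obtain ⟨f, hf⟩ : ∃ f : ℕ, (xG ^ e) ^ f = xG := by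
    simp only [List.mem_cons, List.not_mem_nil, or_false] at he
    rcases he with rfl | rfl
    · exact ⟨1, by simp⟩
    · exact ⟨15, by rw [← pow_mul, show 2 * 15 = 29 + 1 from rfl, pow_add, xG_facts.2.1, one_mul, pow_one]⟩
  have hcomm : φ1 hG * xG = xG ^ 4 * φ1 hG := by
    have h1 : φ1 hG * xG ^ e * (φ1 hG)⁻¹ = (xG ^ e) ^ 4 := by
      rw [← hx1, ← map_inv, ← map_mul, ← map_mul, ← map_pow, show hG * xG * hG⁻¹ = xG ^ 4 from mul_inv_eq_iff_eq_mul.2 xG_facts.1]
    have h2 := congrArg (fun a => a ^ f) h1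
    simp only [conj_pow] at h2
    rw [hf, ← pow_mul, Nat.mul_comm, pow_mul, hf] at h2
    exact mul_inv_eq_iff_eq_mul.1 h2
  obtain ⟨a, ha⟩ := centraliser_x (g := hG⁻¹ * φ1 hG) (by
    show hG⁻¹ * φ1 hG * xG = xG * (hG⁻¹ * φ1 hG)
    rw [mul_assoc, hcomm, ← mul_assoc, ← mul_assoc, show hG⁻¹ * xG ^ 4 = xG * hG⁻¹ by
      rw [inv_mul_eq_iff_eq_mul, ← mul_assoc, xG_facts.1, mul_inv_cancel_right]])
  have hh1 : φ1 hG = hG * xG ^ a := by rw [← ha, mul_inv_cancel_left]
  -- shift by a power of `xG`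
  have hshift : ∀ m : ℕ, hG * xG ^ m = xG ^ (4 * m) * hG := fun m => by
    induction m with
    | zero => simp
    | succ m ih =>
      rw [pow_succ, ← mul_assoc, ih, mul_assoc, xG_facts.1, ← mul_assoc, ← pow_add]
      ring_nf
  have hkey : (xG ^ (18 * a))⁻¹ * (hG * xG ^ a) * xG ^ (18 * a) = hG := by
    rw [mul_assoc, mul_assoc, ← pow_add, hshift, inv_mul_eq_iff_eq_mul]
    refine congrArg (· * hG) (pow_eq_pow_iff_modEq.2 ?_)
    rw [orderOf_xG]
    show 4 * (a + 18 * a) % 29 = 18 * a % 29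
    omega
  refine ⟨MulAut.conj (xG ^ (18 * a))⁻¹ * φ1, e, he, ?_, ?_, ?_⟩
  · rw [hφ1, show φ⁻¹ * (MulAut.conj (xG ^ (18 * a))⁻¹ * (MulAut.conj c⁻¹ * φ)) =
      φ⁻¹ * (MulAut.conj (xG ^ (18 * a))⁻¹ * MulAut.conj c⁻¹) * φ by group, ← map_mul]
    exact (inferInstance : (Inn ↥ruGroup).Normal).conj_mem' _ ⟨_, rfl⟩ φ
  · rw [MulAut.mul_apply, hx1, MulAut.conj_apply, inv_inv, mul_assoc, ← pow_add, add_comm, pow_add,
      inv_mul_cancel_left]
  · rw [MulAut.mul_apply, hh1, MulAut.conj_apply, inv_inv]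
    exact hkey

/-- A word. -/
noncomputable def wordG (e k : ℕ) (J : List ℕ) : ↥ruGroup := (J.map fun j => xG ^ (e * j % 29) * candG k).prod

theorem wordG_val (e k : ℕ) : ∀ (J : List ℕ) (z : Fin 4060),
    (((wordG e k J : ↥ruGroup) : Equiv.Perm (Fin 4060)) z : ℕ) = wordAt e k J z := by
  intro J
  induction J with
  | nil => intro z; rfl
  | cons j J ih =>
    intro z
    rw [wordG, List.map_cons, List.prod_cons, ← wordG, Subgroup.coe_mul, Equiv.Perm.mul_apply, Subgroup.coe_mul,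
      Equiv.Perm.mul_apply, xG_pow, candG_val, ih]
    rfl

theorem powG_val (e k : ℕ) (J : List ℕ) (m : ℕ) (z : Fin 4060) :
    (((wordG e k J ^ m : ↥ruGroup) : Equiv.Perm (Fin 4060)) z : ℕ) = powAt e k J m z := by
  induction m with
  | zero => rfl
  | succ m ih =>
    rw [pow_succ', Subgroup.coe_mul, Equiv.Perm.mul_apply, wordG_val, ih]
    rfl

theorem xG_mod (n : ℕ) : xG ^ (n % 29) = xG ^ n := by
  conv_rhs => rw [← pow_mod_orderOf, orderOf_xG]

theorem map_word (ψ : MulAut ↥ruGroup) {e k : ℕ} (hx : ψ xG = xG ^ e) (hc : ψ cG = candG k) :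
    ∀ J, ψ (wordG 1 7 J) = wordG e k J := by
  intro J
  induction J with
  | nil => exact map_one ψ
  | cons j J ih =>
    simp only [wordG, List.map_cons, List.prod_cons, map_mul] at ih ⊢
    rw [ih, show ψ (candG 7) = candG k from hc, xG_mod, xG_mod, map_pow, hx, ← pow_mul, one_mul]

theorem candidate_unique {ψ : MulAut ↥ruGroup} {e k : ℕ} (he : e ∈ [1, 2]) (hk : k < 28) (hx : ψ xG = xG ^ e)
    (hc : ψ cG = candG k) : e = 1 ∧ k = 7 := by
  by_contra hne
  simp only [List.mem_cons, List.not_mem_nil, or_false] at he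
  set i := 28 * (e - 1) + k with hi
  have h := autTests_ok
  rw [Bool.and_eq_true] at h
  have hh := allB_spec h.2 (show i < 56 by omega)
  simp only at hh
  rw [show Nat.beq i 7 = false from Bool.eq_false_iff.2 fun hb => by
    have := Nat.eq_of_beq_eq_true hb
    exact hne ⟨by omega, by omega⟩, cond_false, show i / 28 + 1 = e by omega, show i % 28 = k by omega] at hh
  simp only [Bool.and_eq_true, Bool.not_eq_true', Nat.blt_eq, List.any_eq_true, Nat.beq_eq] at hh
  obtain ⟨⟨hpt, hmove⟩, r, hr, hJ, hm⟩ := hh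
  have hrel := List.all_eq_true.1 autRels_ok r hr
  rw [← eqL_eq hJ, ← hm] at hmove
  have h1 : wordG 1 7 r.1 ^ r.2 = 1 := ru_ext fun z => by
    rw [powG_val]; exact Nat.eq_of_beq_eq_true (allB_spec hrel z.2)
  have h2 := congrArg ψ h1
  rw [map_pow, map_word ψ hx hc, map_one] at h2
  have h3 := powG_val e k r.1 r.2 ⟨_, hpt⟩
  rw [h2] at h3
  exact Bool.eq_false_iff.1 hmove (by
    rw [Nat.beq_eq]
    exact h3.symm)

theorem gen_word : wordG 1 7 genWord = outG 1 (by norm_num) := ru_ext fun z => by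
  rw [wordG_val, outG_val]
  exact Nat.eq_of_beq_eq_true (allB_spec genWord_ok z.2)

theorem inner_all (φ : MulAut ↥ruGroup) : φ ∈ Inn ↥ruGroup := by
  obtain ⟨ψ, e, he, hi, hx, hh⟩ := normalise φ
  have hy : ψ yG = yG := by rw [xG_facts.2.2.2, map_mul, hh]
  have hc : Commute (ψ cG) yG := by
    have := (candG_comm 7).map ψ
    rwa [hy] at this
  obtain ⟨k, hk, ek⟩ := centraliser_y hc
  obtain ⟨rfl, rfl⟩ := candidate_unique he hk hx ek
  rw [pow_one] at hx
  have h1 : ψ (outG 1 (by norm_num)) = outG 1 (by norm_num) := by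
    rw [← gen_word]
    exact map_word ψ (e := 1) (k := 7) (by rw [pow_one]; exact hx) ek _
  have hψ : ψ = 1 := by
    refine MulEquiv.ext fun g => ?_
    obtain ⟨g, hg⟩ := g
    have hg' := hg
    rw [← grp_out, grp] at hg'
    induction hg' using Subgroup.closure_induction with
    | mem y hy =>
      rw [Set.mem_insert_iff, Set.mem_singleton_iff] at hy
      rcases hy with e | e
      · rw [show (⟨y, hg⟩ : ↥ruGroup) = xG from Subtype.ext (e.trans xG_coe.symm)]
        exact hx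
      · rw [show (⟨y, hg⟩ : ↥ruGroup) = outG 1 (by norm_num) from Subtype.ext (e.trans (outG_coe 1 _).symm)]
        exact h1
    | one => exact map_one ψ
    | mul a b ha hb iha ihb =>
      have ha' : a ∈ ruGroup := grp_out ▸ ha
      have hb' : b ∈ ruGroup := grp_out ▸ hb
      exact (map_mul ψ ⟨a, ha'⟩ ⟨b, hb'⟩).trans (congrArg₂ (· * ·) (iha ha') (ihb hb'))
    | inv a ha iha =>
      have ha' : a ∈ ruGroup := grp_out ▸ ha
      exact (map_inv ψ ⟨a, ha'⟩).trans (congrArg (·⁻¹) (iha ha'))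
  rw [hψ, mul_one] at hi
  exact inv_mem_iff.1 hi

theorem card_out_ruGroup : Nat.card (Out ↥ruGroup) = 1 := by
  have : Subsingleton (Out ↥ruGroup) :=
    QuotientGroup.subsingleton_iff.2 (Subgroup.eq_top_iff' _ |>.2 inner_all)
  exact Nat.card_of_subsingleton (1 : Out ↥ruGroup)

end Cfsg.Agent.RigidGraph.Ru
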